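import Groth.Agent.LocImmBlow.Main
import Groth.Agent.S17383
import Groth.Agent.ProjBundleLib.OpenDense
import Groth.Agent.S4418

/-!
# Applications: lifting localizing immersions, quasi-projectivity, graph extension
-/

set_option autoImplicit false
set_option linter.style.haveILetI false
set_option backward.isDefEq.respectTransparency false
set_option maxHeartbeats 1000000

universe u

open CategoryTheory CategoryTheory.Limits AlgebraicGeometry TopologicalSpace

namespace Groth.Agent.LocImmBlow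

open LocImmersion

variable {X Y Z S : Scheme.{u}}

theorem isIso_of_proper_locImm_dense {A B : Scheme.{u}} [IsNoetherian A] [IsNoetherian B] (g : A ⟶ B) [IsProper g]
    (hg : LocImm.IsLocImmersion g) (hd : Dense (Set.range g)) : IsIso g := by
  haveI : IsOpenImmersion g := S18204.result g hg
  refine (isIso_iff_isOpenImmersion_and_surjective _).2 ⟨inferInstance, ⟨Set.range_eq_univ.mp ?_⟩⟩
  rw [← g.isClosedMap.isClosed_range.closure_eq]
  exact hd.closure_eq

/-- Lifting of a morphism through admissible blow-ups to a localizing immersion. -/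
theorem exists_lift_locImm [IsNoetherian X] [IsNoetherian Y] [IsNoetherian Z] (f : X ⟶ Y) (g : Y ⟶ Z)
    [IsSeparated g] [EssFT.LocallyEssFiniteType g] (hf : LocImm.IsLocImmersion f)
    (hfg : LocImm.IsLocImmersion (f ≫ g)) :
    ∃ (𝓘 : Y.IdealSheafData) (𝓙 : Z.IdealSheafData) (Yt Zt : Scheme.{u}) (b : Yt ⟶ Y) (c : Zt ⟶ Z) (g' : Yt ⟶ Zt),
      IsNoetherian Yt ∧ IsNoetherian Zt ∧
      BlowUp.IsBlowUp b 𝓘 ∧ Disjoint (𝓘.support : Set Y) (Set.range (fun x => f x)) ∧
      BlowUp.IsBlowUp c 𝓙 ∧ Disjoint (𝓙.support : Set Z) (Set.range (fun x => g (f x))) ∧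
      LocImm.IsLocImmersion g' ∧ g' ≫ c = b ≫ g ∧ Dense (Set.range g') := by
  let Yf : Fin 2 → Scheme.{u} := fun i => match i with | 0 => Y | 1 => Z
  let qf : ∀ i, Yf i ⟶ Z := fun i => match i with | 0 => g | 1 => 𝟙 Z
  let ff : ∀ i, X ⟶ Yf i := fun i => match i with | 0 => f | 1 => f ≫ g
  haveI : ∀ i, IsNoetherian (Yf i) := fun i => match i with | 0 => ‹IsNoetherian Y› | 1 => ‹IsNoetherian Z›
  haveI : ∀ i, IsSeparated (qf i) := fun i =>
    match i with | 0 => ‹IsSeparated g› | 1 => (inferInstance : IsSeparated (𝟙 Z))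
  haveI : ∀ i, EssFT.LocallyEssFiniteType (qf i) := fun i =>
    match i with | 0 => ‹EssFT.LocallyEssFiniteType g› | 1 => (inferInstance : EssFT.LocallyEssFiniteType (𝟙 Z))
  obtain ⟨T, r, hr₁, hr₂, hr₃, I, Yt, b, u, t, h, -⟩ := exists_common_target 0 (f ≫ g) Yf qf ff
    (fun i => match i with | 0 => hf | 1 => hfg) (fun i => match i with | 0 => rfl | 1 => Category.comp_id _)
  obtain ⟨hN₀, hb₀, hd₀, hu₀, ht₀, htr₀, hD₀⟩ := h 0
  obtain ⟨hN₁, hb₁, hd₁, hu₁, ht₁, htr₁, hD₁⟩ := h 1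
  haveI := hN₀
  haveI := hN₁
  haveI : IsNoetherian T := isNoetherian_of_ft r
  haveI : IsProper (b 1) := isProper_blowUp hb₁
  haveI : IsProper (t 1 ≫ r) := by
    rw [htr₁]
    exact (inferInstance : IsProper (b 1 ≫ 𝟙 Z))
  haveI : IsProper (t 1) := IsProper.of_comp (t 1) r
  have hdt : ∀ i, Dense (Set.range (t i)) := fun i => (h i).2.2.2.2.2.2.mono (by
    rintro _ ⟨x, rfl⟩
    exact ⟨u i x, (Scheme.Hom.comp_apply _ _ _).symm⟩)
  haveI := isIso_of_proper_locImm_dense (t 1) ht₁ (hdt 1)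
  refine ⟨I 0, I 1, Yt 0, Yt 1, b 0, b 1, t 0 ≫ inv (t 1), hN₀, hN₁, hb₀, hd₀, hb₁, ?_,
    isLocImmersion_comp_openImmersion _ ht₀, ?_, ?_⟩
  · refine hd₁.mono_right ?_
    rintro _ ⟨x, rfl⟩
    exact ⟨x, Scheme.Hom.comp_apply _ _ _⟩
  · rw [Category.assoc, ← show t 1 ≫ r = b 1 from htr₁.trans (Category.comp_id _), IsIso.inv_hom_id_assoc]
    exact htr₀
  · rw [Scheme.Hom.comp_base, TopCat.coe_comp]
    exact DenseRange.comp (g := ⇑(inv (t 1))) (inv (t 1)).surjective.denseRange (hdt 0) (inv (t 1)).continuous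

/-- A partial morphism becomes one with closed graph after a blow-up. -/
theorem exists_graph_extension [IsNoetherian S] [IsNoetherian X] [IsNoetherian Y] [IsNoetherian Z]
    (a : X ⟶ S) (b : Y ⟶ S) [IsSeparated b] [EssFT.LocallyEssFiniteType b]
    (j : Z ⟶ X) (hj : LocImm.IsLocImmersion j) (f : Z ⟶ Y) (hjf : j ≫ a = f ≫ b) :
    ∃ (𝓘 : X.IdealSheafData) (Xt Z' : Scheme.{u}) (c : Xt ⟶ X) (j' : Z' ⟶ Xt) (e : Z ⟶ Z') (f' : Z' ⟶ Y)
      (h : j' ≫ (c ≫ a) = f' ≫ b),
      BlowUp.IsBlowUp c 𝓘 ∧ Disjoint (𝓘.support : Set X) (Set.range (fun x => j x)) ∧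
      LocImm.IsLocImmersion j' ∧ e ≫ j' ≫ c = j ∧ e ≫ f' = f ∧
      IsClosedImmersion (pullback.lift j' f' h) := by
  obtain ⟨Yc, k, q, hYc, hk, hq, hkq⟩ := exists_proper_model b
  obtain ⟨𝓘, Xt, c, e, f', hXt, hc, hdisj, hec, hef, hca⟩ :=
    exists_blowUp_extension a q j hj (f ≫ k) (by rw [Category.assoc, hkq, hjf])
  have h : pullback.snd k f' ≫ (c ≫ a) = pullback.fst k f' ≫ b := by
    rw [hca, ← hkq, reassoc_of% (pullback.condition (f := k) (g := f'))]
  refine ⟨𝓘, Xt, pullback k f', c, pullback.snd k f', pullback.lift f e hef.symm, pullback.fst k f', h, hc, hdisj,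
    S18202.result k f' hk, by rw [pullback.lift_snd_assoc, hec], pullback.lift_fst _ _ _, ?_⟩
  let m := pullback.mapDesc k f' q
  haveI : IsClosedImmersion m := inferInstance
  let σ : pullback (k ≫ q) (f' ≫ q) ≅ pullback (c ≫ a) b :=
    pullbackSymmetry _ _ ≪≫ pullback.congrHom hca.symm hkq
  have e : pullback.lift (pullback.snd k f') (pullback.fst k f') h = m ≫ σ.hom := by
    apply pullback.hom_ext <;> simp [m, σ, pullback.mapDesc]
  rw [e]
  infer_instance

/-- Quasi-projectivity after an admissible blow-up. -/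
theorem exists_essQuasiProjective {U P : Scheme.{u}} [IsNoetherian U] [IsNoetherian Y] [IsNoetherian S] [IsNoetherian P]
    (π : Y ⟶ S) [IsSeparated π] [EssFT.LocallyEssFiniteType π] (f : U ⟶ Y) (hf : LocImm.IsLocImmersion f)
    (hfd : Dense (Set.range (fun x => f x))) (j : U ⟶ P) (p : P ⟶ S) (hj : LocImm.IsLocImmersion j)
    (hp : RelProj.IsProjective p) (hc : j ≫ p = f ≫ π) :
    ∃ (𝓘 : Y.IdealSheafData) (Yt P' : Scheme.{u}) (b : Yt ⟶ Y) (j' : Yt ⟶ P') (p' : P' ⟶ S),
      BlowUp.IsBlowUp b 𝓘 ∧ Disjoint (𝓘.support : Set Y) (Set.range (fun x => f x)) ∧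
      LocImm.IsLocImmersion j' ∧ RelProj.IsProjective p' ∧ j' ≫ p' = b ≫ π := by
  obtain ⟨X, k, q, hX, hk, hkd, hqs, hql, hqq, hkq⟩ := exists_dense_model π
  haveI : IsProper p := (S4418.result p hp).2
  have hfk := isLocImmersion_comp hf hk
  obtain ⟨W, kW, g₁, g₂, hW, -, hg₁, hg₂, hg, e₁, e₂⟩ :=
    exists_common_open (f ≫ k) j q p hfk hj (by rw [Category.assoc, hkq, hc])
  haveI := hg₁
  haveI := hg₂
  let V : X.Opens := g₁.opensRange
  have hV : ∀ x, k (f x) ∈ V := fun x => ⟨kW x, by rw [← Scheme.Hom.comp_apply, e₁, Scheme.Hom.comp_apply]⟩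
  have hVd : Dense (V : Set X) := by
    refine Dense.mono ?_ (DenseRange.comp (g := ⇑k) (f := ⇑f) hkd.denseRange hfd k.continuous)
    rintro _ ⟨x, rfl⟩
    exact hV x
  haveI : IsNoetherian V.toScheme := isNoetherian_opens V
  have hqp : RelProj.IsQuasiProjective (V.ι ≫ q) := by
    refine ProjBundleLib.isQuasiProjective_of_immersion hp (g₁.isoOpensRange.inv ≫ g₂) ?_
    rw [Category.assoc, ← hg, ← Category.assoc, Scheme.Hom.isoOpensRange_inv_comp]
  obtain ⟨K, X', P', b, t, p', hb, hadm, hp', ht, -, htp⟩ :=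
    S17383.result q V (NoetherianSpace.isCompact _) hVd hqp
  haveI := ht
  haveI : IsNoetherian X' := isNoetherian_of_blowUp hb
  haveI : Flat k := flat hk.1
  refine ⟨K.comap k, pullback k b, P', pullback.fst k b, pullback.snd k b ≫ t, p', S1680.result k K b hb, ?_,
    isLocImmersion_comp_openImmersion t (S18202.result k b hk), hp', ?_⟩
  · rw [Scheme.IdealSheafData.support_comap, Set.disjoint_left]
    rintro y hy ⟨x, rfl⟩
    exact Set.disjoint_left.mp hadm.2 hy (hV x)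
  · rw [Category.assoc, htp, ← hkq, reassoc_of% (pullback.condition (f := k) (g := b))]

end Groth.Agent.LocImmBlow
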