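import Mathlib
import Groth.Agent.LocImmersion.GlueModels
import Groth.Agent.LocImmersion.Factor
import Groth.Agent.SchDenseLib.Basic
import Groth.Agent.BlowCompLib.Basic
import Groth.Agent.BlowExistsLib.Glue
import Groth.Agent.RGBlowLib.Iso
import Groth.Agent.RGBlowLib.Extend
import Groth.Agent.S0384
import Groth.Agent.S1571
import Groth.Agent.S18195
import Groth.Agent.S18204

/-!
# Localizing immersions: models, spreading out, dense opens
-/

set_option autoImplicit false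
set_option linter.style.haveILetI false
set_option backward.isDefEq.respectTransparency false
set_option maxHeartbeats 1000000

universe u

open CategoryTheory CategoryTheory.Limits AlgebraicGeometry TopologicalSpace

namespace Groth.Agent.LocImmBlow

open LocImmersion

variable {X Y Z S : Scheme.{u}}

theorem isFiniteTypeIdeal [IsLocallyNoetherian X] (I : X.IdealSheafData) : BlowUp.IsFiniteTypeIdeal I := fun U => by
  haveI : IsNoetherianRing Γ(X, U) := IsLocallyNoetherian.component_noetherian U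
  exact IsNoetherian.noetherian _

theorem isProper_blowUp [IsLocallyNoetherian X] {X' : Scheme.{u}} {I : X.IdealSheafData} {b : X' ⟶ X}
    (hb : BlowUp.IsBlowUp b I) : IsProper b :=
  BlowExistsLib.isProper_of_FG hb (isFiniteTypeIdeal I)

theorem isNoetherian_of_ft [IsNoetherian Y] (f : X ⟶ Y) [LocallyOfFiniteType f] [QuasiCompact f] : IsNoetherian X := by
  haveI : IsLocallyNoetherian X := LocallyOfFiniteType.isLocallyNoetherian f
  haveI : CompactSpace X := QuasiCompact.compactSpace_of_compactSpace f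
  exact {}

theorem isNoetherian_of_blowUp [IsNoetherian X] {X' : Scheme.{u}} {I : X.IdealSheafData} {b : X' ⟶ X}
    (hb : BlowUp.IsBlowUp b I) : IsNoetherian X' :=
  haveI := isProper_blowUp hb
  isNoetherian_of_ft b

/-- Morphisms avoiding the centre lift to the blow-up. -/
theorem exists_lift_off {X' T : Scheme.{u}} {I : X.IdealSheafData} {b : X' ⟶ X} (hb : BlowUp.IsBlowUp b I)
    (g : T ⟶ X) (hg : Disjoint (I.support : Set X) (Set.range (fun t => g t))) : ∃ l : T ⟶ X', l ≫ b = g := by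
  have h : I.comap g = ⊤ := BlowCompLib.comap_eq_top I g fun t ht => Set.disjoint_left.mp hg ht ⟨t, rfl⟩
  obtain ⟨l, hl, -⟩ := hb.2 T g (by rw [h]; exact BlowCompLib.isEffCartier_top)
  exact ⟨l, hl⟩

theorem eq_lift_off {X' T : Scheme.{u}} {I : X.IdealSheafData} {b : X' ⟶ X} (hb : BlowUp.IsBlowUp b I)
    (l l' : T ⟶ X') (h : l ≫ b = l' ≫ b) (hg : Disjoint (I.support : Set X) (Set.range (fun t => (l' ≫ b) t))) :
    l = l' := by
  have h' : I.comap (l' ≫ b) = ⊤ := BlowCompLib.comap_eq_top I _ fun t ht => Set.disjoint_left.mp hg ht ⟨t, rfl⟩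
  exact (hb.2 T (l' ≫ b) (by rw [h']; exact BlowCompLib.isEffCartier_top)).unique h rfl

theorem isLocImmersion_comp [IsNoetherian X] {f : X ⟶ Y} {g : Y ⟶ Z} (hf : LocImm.IsLocImmersion f)
    (hg : LocImm.IsLocImmersion g) : LocImm.IsLocImmersion (f ≫ g) := by
  refine ⟨fun x => ?_, fun a b h => hf.2 (hg.2 h)⟩
  obtain ⟨⟨U₂, hU₂⟩, ⟨V₂, hV₂⟩, hxV₂, e₂, hl₂⟩ := hg.1 (f x)
  obtain ⟨⟨U₁, hU₁⟩, ⟨V₁, hV₁⟩, hxV₁, e₁, hl₁⟩ := hf.1 x
  simp only at hxV₂ e₂ hl₂ hxV₁ e₁ hl₁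
  obtain ⟨a, b, hab, hxa⟩ := exists_basicOpen_le_affine_inter hU₁ hV₂ (f x) ⟨e₁ hxV₁, hxV₂⟩
  obtain ⟨e', he'⟩ := isLocHom_appLE_basicOpen f hU₁ hV₁ e₁ hl₁ a
  have e₂' : Y.basicOpen a ≤ g ⁻¹ᵁ U₂ := hab.trans_le ((Y.basicOpen_le b).trans e₂)
  have h2 : LocImm.IsLocHom (g.appLE U₂ (Y.basicOpen a) e₂').hom := by
    have cast : ∀ {V V' : Y.Opens} (_ : V = V') (e : V ≤ g ⁻¹ᵁ U₂) (e' : V' ≤ g ⁻¹ᵁ U₂),
        LocImm.IsLocHom (g.appLE U₂ V e).hom → LocImm.IsLocHom (g.appLE U₂ V' e').hom := by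
      rintro _ _ rfl _ _ h; exact h
    refine cast hab.symm ((Y.basicOpen_le b).trans e₂) e₂' ?_
    rw [← Scheme.Hom.appLE_map g e₂ (homOfLE (Y.basicOpen_le b)).op, CommRingCat.hom_comp]
    exact isLocHom_comp hl₂ (isLocHom_res_basicOpen hV₂ b)
  refine ⟨⟨U₂, hU₂⟩, ⟨_, hV₁.basicOpen _⟩, ?_, e'.trans (f.preimage_mono e₂'), ?_⟩
  · show x ∈ X.basicOpen (f.appLE U₁ V₁ e₁ a)
    rw [← preimage_basicOpen_inf]
    exact ⟨hxV₁, hxa⟩
  · rw [← Scheme.Hom.appLE_comp_appLE f g U₂ (Y.basicOpen a) _ e₂' e', CommRingCat.hom_comp]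
    exact isLocHom_comp h2 he'

/-- A finite type model with dense image. -/
theorem exists_dense_model [IsNoetherian Y] [IsNoetherian S] (q : Y ⟶ S) [IsSeparated q]
    [EssFT.LocallyEssFiniteType q] :
    ∃ (X : Scheme.{u}) (k : Y ⟶ X) (p : X ⟶ S), IsNoetherian X ∧ LocImm.IsLocImmersion k ∧ IsDominant k ∧
      IsSeparated p ∧ LocallyOfFiniteType p ∧ QuasiCompact p ∧ k ≫ p = q := by
  obtain ⟨X₀, k₀, p₀, hX₀, hk₀, hp₁, hp₂, hp₃, hkp⟩ := exists_factorization q
  haveI : IsNoetherian k₀.image := isNoetherian_of_ft k₀.imageι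
  haveI : IsSchemeTheoreticallyDominant k₀.toImage := SchDenseLib.toImage_dominant k₀
  refine ⟨k₀.image, k₀.toImage, k₀.imageι ≫ p₀, inferInstance, ?_, inferInstance, inferInstance, inferInstance,
    inferInstance, by rw [k₀.toImage_imageι_assoc, hkp]⟩
  exact S18195.result k₀.toImage k₀.imageι (by rw [k₀.toImage_imageι]; exact hk₀) k₀.toImage.app_injective

/-- Nagata compactification for morphisms essentially of finite type. -/
theorem exists_proper_model [IsNoetherian Y] [IsNoetherian S] (q : Y ⟶ S) [IsSeparated q]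
    [EssFT.LocallyEssFiniteType q] :
    ∃ (X : Scheme.{u}) (k : Y ⟶ X) (p : X ⟶ S), IsNoetherian X ∧ LocImm.IsLocImmersion k ∧ IsProper p ∧
      k ≫ p = q := by
  obtain ⟨X₀, k₀, p₀, hX₀, hk₀, hp₁, hp₂, hp₃, hkp⟩ := exists_factorization q
  obtain ⟨Xc, j, g, hj, -, hg, hjg⟩ := S0384.result p₀
  haveI := hj
  haveI := hg
  exact ⟨Xc, k₀ ≫ j, g, isNoetherian_of_ft g, isLocImmersion_comp_openImmersion j hk₀, hg,
    by rw [Category.assoc, hjg, hkp]⟩

/-- Morphisms to schemes of finite type spread out from a localizing immersion to an open. -/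
theorem exists_open_extension {T : Scheme.{u}} [IsNoetherian T] [IsNoetherian X] (a : X ⟶ S) (b : Y ⟶ S)
    [IsSeparated b] [LocallyOfFiniteType b] [QuasiCompact b] (j : T ⟶ X) (hj : LocImm.IsLocImmersion j) (f : T ⟶ Y)
    (h : j ≫ a = f ≫ b) :
    ∃ (W : X.Opens) (w : (W : Scheme.{u}) ⟶ Y) (j' : T ⟶ (W : Scheme.{u})),
      j' ≫ W.ι = j ∧ j' ≫ w = f ∧ w ≫ b = W.ι ≫ a := by
  haveI : IsNoetherian (pullback a b) := isNoetherian_of_ft (pullback.fst a b)
  let k₀ : T ⟶ pullback a b := pullback.lift j f h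
  haveI : IsNoetherian k₀.image := isNoetherian_of_ft k₀.imageι
  haveI : IsSchemeTheoreticallyDominant k₀.toImage := SchDenseLib.toImage_dominant k₀
  let q : k₀.image ⟶ X := k₀.imageι ≫ pullback.fst a b
  have e : k₀.toImage ≫ q = j := by simp [q, k₀]
  have hk : LocImm.IsLocImmersion k₀.toImage :=
    S18195.result k₀.toImage q (by rw [e]; exact hj) k₀.toImage.app_injective
  obtain ⟨U, hU, hl⟩ := exists_open_isLocImmersion k₀.toImage q hk (by rw [e]; exact hj)
  haveI : IsNoetherian U.toScheme := isNoetherian_opens U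
  haveI : IsOpenImmersion (U.ι ≫ q) := S18204.result _ hl
  let k' : T ⟶ U.toScheme := IsOpenImmersion.lift U.ι k₀.toImage (by rw [Scheme.Opens.range_ι]; exact hU)
  refine ⟨(U.ι ≫ q).opensRange, (U.ι ≫ q).isoOpensRange.inv ≫ U.ι ≫ k₀.imageι ≫ pullback.snd a b,
    k' ≫ (U.ι ≫ q).isoOpensRange.hom, ?_, ?_, ?_⟩
  · rw [Category.assoc, Scheme.Hom.isoOpensRange_hom_ι]
    show k' ≫ U.ι ≫ q = j
    rw [IsOpenImmersion.lift_fac_assoc, e]
  · rw [Category.assoc, Iso.hom_inv_id_assoc, IsOpenImmersion.lift_fac_assoc, Scheme.Hom.toImage_imageι_assoc,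
      pullback.lift_snd]
  · rw [← Scheme.Hom.isoOpensRange_inv_comp (U.ι ≫ q)]
    simp only [q, Category.assoc, pullback.condition]

/-- Finitely many models of a localizing immersion share an open in which it is dense. -/
theorem exists_common_opens {ι : Type} [Finite ι] (i₀ : ι) {U : Scheme.{u}} [IsNoetherian U] [IsNoetherian S]
    (X : ι → Scheme.{u}) [∀ i, IsNoetherian (X i)] (p : ∀ i, X i ⟶ S) [∀ i, IsSeparated (p i)]
    [∀ i, LocallyOfFiniteType (p i)] (f : ∀ i, U ⟶ X i) (hf : ∀ i, LocImm.IsLocImmersion (f i))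
    (hfp : ∀ i, f i ≫ p i = f i₀ ≫ p i₀) :
    ∃ (W : Scheme.{u}) (kW : U ⟶ W) (o : ∀ i, W ⟶ X i), IsNoetherian W ∧ LocImm.IsLocImmersion kW ∧
      IsDominant kW ∧ ∀ i, IsOpenImmersion (o i) ∧ kW ≫ o i = f i ∧ o i ≫ p i = o i₀ ≫ p i₀ := by
  classical
  cases nonempty_fintype ι
  choose W k g₁ g₂ hW hk hg₁ hg₂ hg e₁ e₂ using fun i =>
    exists_common_open (f i₀) (f i) (p i₀) (p i) (hf i₀) (hf i) (hfp i).symm
  obtain ⟨V₀, hV₀, hmax⟩ := exists_open_maximal_mem_range (hf i₀).1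
  let V : (X i₀).Opens := V₀ ⊓ Finset.univ.inf fun i => (g₁ i).opensRange
  have hVi : ∀ i, V ≤ (g₁ i).opensRange := fun i => inf_le_right.trans (Finset.inf_le (Finset.mem_univ i))
  have hr : ∀ x, f i₀ x ∈ V := fun x => by
    refine ⟨hV₀ ⟨x, rfl⟩, ?_⟩
    rw [TopologicalSpace.Opens.coe_finset_inf, Finset.inf_set_eq_iInter]
    exact Set.mem_iInter₂.2 fun i _ => ⟨k i x, by rw [← Scheme.Hom.comp_apply, e₁]⟩
  haveI := isNoetherian_opens V
  have hlr : Set.range (f i₀) ⊆ Set.range V.ι := by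
    rw [Scheme.Opens.range_ι]
    rintro _ ⟨x, rfl⟩
    exact hr x
  let kW : U ⟶ V.toScheme := IsOpenImmersion.lift V.ι (f i₀) hlr
  have hkW : kW ≫ V.ι = f i₀ := IsOpenImmersion.lift_fac _ _ _
  have hg' : ∀ i, Set.range V.ι ⊆ Set.range (g₁ i) := fun i => by
    rw [Scheme.Opens.range_ι]
    exact hVi i
  haveI := hg₁
  let o : ∀ i, V.toScheme ⟶ X i := fun i => IsOpenImmersion.lift (g₁ i) V.ι (hg' i) ≫ g₂ i
  have ho₀ : ∀ i, o i ≫ p i = V.ι ≫ p i₀ := fun i => by
    simp only [o, Category.assoc, ← hg i, IsOpenImmersion.lift_fac_assoc]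
  refine ⟨V, kW, o, inferInstance, isLocImmersion_of_comp_openImmersion V.ι (by rw [hkW]; exact hf i₀), ?_,
    fun i => ⟨?_, ?_, (ho₀ i).trans (ho₀ i₀).symm⟩⟩
  · refine ⟨dense_iff_closure_eq.2 (Set.eq_univ_of_forall fun v => ?_)⟩
    obtain ⟨η, hη, hηmax⟩ := exists_maximal v
    have hηX : ∀ y, y ⤳ V.ι η → y = V.ι η := fun y hy => by
      have hyV : y ∈ V := hy.mem_open V.isOpen η.2
      exact congrArg Subtype.val (hηmax ⟨y, hyV⟩ ((subtype_specializes_iff _ _).mpr hy))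
    obtain ⟨x, hx⟩ := hmax (V.ι η) η.2.1 hηX
    have : kW x = η := V.ι.injective (by rw [← Scheme.Hom.comp_apply, hkW]; exact hx)
    exact hη.mem_closed isClosed_closure (subset_closure ⟨x, this⟩)
  · haveI := hg₂ i
    haveI : IsOpenImmersion (IsOpenImmersion.lift (g₁ i) V.ι (hg' i) ≫ g₁ i) := by
      rw [IsOpenImmersion.lift_fac]; infer_instance
    haveI : IsOpenImmersion (IsOpenImmersion.lift (g₁ i) V.ι (hg' i)) := IsOpenImmersion.of_comp _ (g₁ i)
    exact inferInstance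
  · have : kW ≫ IsOpenImmersion.lift (g₁ i) V.ι (hg' i) = k i := by
      rw [← cancel_mono (g₁ i), Category.assoc, IsOpenImmersion.lift_fac, hkW, e₁]
    rw [← Category.assoc, this, e₂]

end Groth.Agent.LocImmBlow
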