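import Groth.Agent.LocImmBlow.Basic
import Groth.Agent.S1275
import Groth.Agent.S17387
import Groth.Agent.S1680
import Groth.Agent.S1694
import Groth.Agent.S18202
import Groth.Agent.S18196

/-!
# Admissible blow-ups for localizing immersions
-/

set_option autoImplicit false
set_option linter.style.haveILetI false
set_option backward.isDefEq.respectTransparency false
set_option maxHeartbeats 1000000

universe u

open CategoryTheory CategoryTheory.Limits AlgebraicGeometry TopologicalSpace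

namespace Groth.Agent.LocImmBlow

open LocImmersion

variable {X Y Z S : Scheme.{u}}

theorem isIso_blowUp_restrict {X' : Scheme.{u}} {I : X.IdealSheafData} {b : X' ⟶ X} (hb : BlowUp.IsBlowUp b I)
    (V : X.Opens) (hV : Disjoint (I.support : Set X) (V : Set X)) : IsIso (b ∣_ V) := by
  haveI := BlowCompLib.isIso_restrict I b hb
  have hle : V ≤ I.support.compl := fun x hx hxs => Set.disjoint_left.mp hV hxs hx
  let C : X.Opens := I.support.compl
  have h : MorphismProperty.isomorphisms Scheme.{u} (b ∣_ C) := ‹IsIso (b ∣_ I.support.compl)›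
  have h' := IsZariskiLocalAtTarget.restrict (P := MorphismProperty.isomorphisms Scheme.{u}) h (C.ι ⁻¹ᵁ V)
  rw [MorphismProperty.arrow_mk_iso_iff (.isomorphisms _) (morphismRestrictRestrict _ _ _)] at h'
  have e : C.ι ''ᵁ (C.ι ⁻¹ᵁ V) = V := by
    rw [Scheme.Hom.image_preimage_eq_opensRange_inf, Scheme.Opens.opensRange_ι, inf_eq_right.mpr hle]
  rw [e] at h'
  exact h'

theorem dense_preimage_blowUp {X' : Scheme.{u}} [IsLocallyNoetherian X] {I : X.IdealSheafData} {b : X' ⟶ X}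
    (hb : BlowUp.IsBlowUp b I) {D : Set X} (hD : (I.support : Set X)ᶜ ⊆ closure D) : Dense (b ⁻¹' D) := by
  haveI := isProper_blowUp hb
  haveI := BlowCompLib.isIso_restrict I b hb
  let C : X.Opens := I.support.compl
  have hd : Dense ((b ⁻¹ᵁ C : X'.Opens) : Set X') := by
    obtain ⟨h1, h2⟩ := S1571.result X' (I.comap b) hb.1
    haveI := h1
    haveI := h2
    have e : ((I.comap b).support.compl : X'.Opens) = b ⁻¹ᵁ C := by
      ext x
      show x ∉ (I.comap b).support ↔ b x ∉ I.support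
      rw [Scheme.IdealSheafData.support_comap]
      rfl
    rw [← e, ← Scheme.Opens.range_ι]
    exact (Scheme.Opens.ι (X := X') (I.comap b).support.compl).denseRange
  refine dense_iff_inter_open.2 fun O hO hne => ?_
  obtain ⟨x, hxO, hxC⟩ := dense_iff_inter_open.1 hd O hO hne
  have hcl : b x ∈ closure D := hD hxC
  let O' : TopologicalSpace.Opens (b ⁻¹ᵁ C).toScheme := (b ⁻¹ᵁ C).ι ⁻¹ᵁ ⟨O, hO⟩
  have himg : IsOpen ((fun z => C.ι ((b ∣_ C) z)) '' (O' : Set (b ⁻¹ᵁ C).toScheme)) :=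
    ((C.ι.isOpenEmbedding).comp ((b ∣_ C).isOpenEmbedding)).isOpenMap _ O'.isOpen
  obtain ⟨y, ⟨z, hz, rfl⟩, hyD⟩ := mem_closure_iff.1 hcl _ himg ⟨⟨x, hxC⟩, hxO, morphismRestrict_base_coe b C ⟨x, hxC⟩⟩
  refine ⟨(b ⁻¹ᵁ C).ι z, hz, ?_⟩
  show b ((b ⁻¹ᵁ C).ι z) ∈ D
  rw [← Scheme.Hom.comp_apply, ← morphismRestrict_ι]
  exact hyD

theorem range_of_lift_blowUp {X' W : Scheme.{u}} {I : X.IdealSheafData} {b : X' ⟶ X} (hb : BlowUp.IsBlowUp b I)
    (o : W ⟶ X) (u : W ⟶ X') (hu : u ≫ b = o) (hd : Disjoint (I.support : Set X) (Set.range (fun w => o w))) :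
    b ⁻¹' Set.range (fun w => o w) ⊆ Set.range u := by
  haveI := BlowCompLib.isIso_restrict I b hb
  rintro x ⟨w, hw⟩
  have hxC : x ∈ b ⁻¹ᵁ I.support.compl := fun hxs => Set.disjoint_left.mp hd (hw ▸ hxs) ⟨w, rfl⟩
  have huC : u w ∈ b ⁻¹ᵁ I.support.compl := fun hxs => by
    refine Set.disjoint_left.mp hd ?_ ⟨w, rfl⟩
    rw [← Scheme.Hom.comp_apply, hu] at hxs
    exact hxs
  refine ⟨w, congrArg Subtype.val ((b ∣_ I.support.compl).isOpenEmbedding.injective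
    (a₁ := (⟨u w, huC⟩ : (b ⁻¹ᵁ I.support.compl).toScheme)) (a₂ := ⟨x, hxC⟩) (Subtype.ext ?_))⟩
  rw [morphismRestrict_base_coe b I.support.compl ⟨u w, huC⟩, morphismRestrict_base_coe b I.support.compl ⟨x, hxC⟩]
  show b (u w) = b x
  rw [← Scheme.Hom.comp_apply, hu]
  exact hw

/-- A morphism to a proper scheme extends after a blow-up away from the localizing immersion. -/
theorem exists_blowUp_extension {T : Scheme.{u}} [IsNoetherian T] [IsNoetherian X] [IsNoetherian S]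
    (a : X ⟶ S) (b : Y ⟶ S) [IsProper b] (j : T ⟶ X) (hj : LocImm.IsLocImmersion j) (f : T ⟶ Y)
    (h : j ≫ a = f ≫ b) :
    ∃ (𝓘 : X.IdealSheafData) (Xt : Scheme.{u}) (c : Xt ⟶ X) (e : T ⟶ Xt) (f' : Xt ⟶ Y),
      IsNoetherian Xt ∧ BlowUp.IsBlowUp c 𝓘 ∧ Disjoint (𝓘.support : Set X) (Set.range (fun x => j x)) ∧
      e ≫ c = j ∧ e ≫ f' = f ∧ c ≫ a = f' ≫ b := by
  obtain ⟨W, w, j', hj', hjw, hwb⟩ := exists_open_extension a b j hj f h
  let T₀ : X.Opens := ⊤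
  let φ : pullback a b ⟶ (T₀ : Scheme.{u}) := pullback.fst a b ≫ X.topIso.inv
  let s : (W : Scheme.{u}) ⟶ pullback a b := pullback.lift W.ι w hwb.symm
  haveI : IsIso T₀.ι := (isIso_iff_isOpenImmersion_and_surjective _).2
    ⟨inferInstance, ⟨fun x => ⟨⟨x, trivial⟩, rfl⟩⟩⟩
  have hφ : φ ≫ T₀.ι = pullback.fst a b := by
    simp only [φ, T₀, Category.assoc]
    rw [← Scheme.topIso_hom, Iso.inv_hom_id, Category.comp_id]
  obtain ⟨𝓘, Xt, c, hc, hadm, s', hs', hss⟩ := S1275.result W T₀ le_top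
    (NoetherianSpace.isCompact _) (NoetherianSpace.isCompact _) φ s (by
      rw [← cancel_mono T₀.ι, Category.assoc, hφ, pullback.lift_fst, Scheme.homOfLE_ι])
  haveI : IsNoetherian Xt := isNoetherian_of_blowUp hc
  haveI : IsIso (c ⁻¹ᵁ T₀).ι := (isIso_iff_isOpenImmersion_and_surjective _).2
    ⟨inferInstance, ⟨fun x => ⟨⟨x, trivial⟩, rfl⟩⟩⟩
  have hdisj : Disjoint (𝓘.support : Set X) (Set.range (fun x => j x)) := by
    refine hadm.2.mono_right ?_
    rintro _ ⟨x, rfl⟩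
    show j x ∈ W
    rw [← hj', Scheme.Hom.comp_apply]
    exact (j' x).2
  obtain ⟨e, he⟩ := exists_lift_off hc j hdisj
  let f' : Xt ⟶ Y := inv (c ⁻¹ᵁ T₀).ι ≫ s' ≫ pullback.snd a b
  have hew : Set.range e ⊆ Set.range (c ⁻¹ᵁ W).ι := by
    rintro _ ⟨x, rfl⟩
    rw [Scheme.Opens.range_ι]
    show c (e x) ∈ W
    rw [← Scheme.Hom.comp_apply, he, ← hj', Scheme.Hom.comp_apply]
    exact (j' x).2
  let e' := IsOpenImmersion.lift (c ⁻¹ᵁ W).ι e hew
  have he' : e' ≫ (c ∣_ W) = j' := by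
    rw [← cancel_mono W.ι, Category.assoc, morphismRestrict_ι, IsOpenImmersion.lift_fac_assoc, he, hj']
  refine ⟨𝓘, Xt, c, e, f', inferInstance, hc, hdisj, he, ?_, ?_⟩
  · have h1 : e ≫ inv (c ⁻¹ᵁ T₀).ι = e' ≫ Xt.homOfLE (show c ⁻¹ᵁ W ≤ c ⁻¹ᵁ T₀ from fun _ _ => trivial) := by
      rw [IsIso.comp_inv_eq, Category.assoc, Scheme.homOfLE_ι, IsOpenImmersion.lift_fac]
    simp only [f']
    rw [reassoc_of% h1, reassoc_of% hss, pullback.lift_snd, reassoc_of% he', hjw]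
  · simp only [f', Category.assoc]
    rw [← pullback.condition, ← hφ, Category.assoc, reassoc_of% hs', morphismRestrict_ι_assoc,
      IsIso.inv_hom_id_assoc]

/-- The common target theorem. -/
theorem exists_common_target {U : Scheme.{u}} [IsNoetherian S] [IsNoetherian U] {n : ℕ} (i₀ : Fin n)
    (gU : U ⟶ S) (Y : Fin n → Scheme.{u}) [∀ i, IsNoetherian (Y i)] (q : ∀ i, Y i ⟶ S)
    [∀ i, IsSeparated (q i)] [∀ i, EssFT.LocallyEssFiniteType (q i)]
    (f : ∀ i, U ⟶ Y i) (hf : ∀ i, LocImm.IsLocImmersion (f i)) (hfq : ∀ i, f i ≫ q i = gU) :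
    ∃ (Zc : Scheme.{u}) (r : Zc ⟶ S) (_ : IsSeparated r) (_ : LocallyOfFiniteType r) (_ : QuasiCompact r)
      (𝓘 : ∀ i, (Y i).IdealSheafData) (Yt : Fin n → Scheme.{u}) (b : ∀ i, Yt i ⟶ Y i) (u : ∀ i, U ⟶ Yt i)
      (g : ∀ i, Yt i ⟶ Zc),
      (∀ i, IsNoetherian (Yt i) ∧ BlowUp.IsBlowUp (b i) (𝓘 i) ∧
        Disjoint ((𝓘 i).support : Set (Y i)) (Set.range (fun x => f i x)) ∧
        u i ≫ b i = f i ∧ LocImm.IsLocImmersion (g i) ∧ g i ≫ r = b i ≫ q i ∧
        Dense (Set.range (fun x => (u i ≫ g i) x))) ∧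
      (∀ i i', u i ≫ g i = u i' ≫ g i') := by
  classical
  choose X k p hX hk hkd hps hpl hpq hkp using fun i => exists_dense_model (q i)
  have hfk : ∀ i, LocImm.IsLocImmersion (f i ≫ k i) := fun i => isLocImmersion_comp (hf i) (hk i)
  obtain ⟨W, kW, o, hW, -, hkWd, ho⟩ := exists_common_opens i₀ X p (fun i => f i ≫ k i) hfk
    (fun i => by rw [Category.assoc, hkp, Category.assoc, hkp, hfq, hfq])
  have hoi : ∀ i, IsOpenImmersion (o i) := fun i => (ho i).1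
  have hko : ∀ i, kW ≫ o i = f i ≫ k i := fun i => (ho i).2.1
  have hop : ∀ i, o i ≫ p i = o i₀ ≫ p i₀ := fun i => (ho i).2.2
  -- make the common open dense
  let V : ∀ i, (X i).Opens := fun i => ⟨interior (closure (Set.range (o i))), isOpen_interior⟩
  have hoV : ∀ i, Set.range (o i) ⊆ (V i : Set (X i)) := fun i =>
    interior_maximal subset_closure (o i).isOpenEmbedding.isOpen_range
  choose J₀ hJ₀ hJ₀' using fun i => RGBlowLib.exists_exact_admissible (V i) (NoetherianSpace.isCompact _)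
  choose X₁ b₀ hb₀ using fun i => BlowExistsLib.exists_isBlowUp (𝓘 := J₀ i)
  have hd₀ : ∀ i, Disjoint ((J₀ i).support : Set (X i)) (Set.range (fun w => o i w)) := fun i =>
    (hJ₀ i).2.mono_right (hoV i)
  choose o₁ ho₁ using fun i => exists_lift_off (hb₀ i) (o i) (hd₀ i)
  haveI hX₁ : ∀ i, IsNoetherian (X₁ i) := fun i => isNoetherian_of_blowUp (hb₀ i)
  haveI hb₀p : ∀ i, IsProper (b₀ i) := fun i => isProper_blowUp (hb₀ i)
  haveI ho₁i : ∀ i, IsOpenImmersion (o₁ i) := fun i => by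
    haveI := hoi i
    haveI := isIso_blowUp_restrict (hb₀ i) (V i) (hJ₀ i).2
    let l : W ⟶ (V i).toScheme := IsOpenImmersion.lift (V i).ι (o i) (by rw [Scheme.Opens.range_ι]; exact hoV i)
    haveI : IsOpenImmersion (l ≫ (V i).ι) := by rw [IsOpenImmersion.lift_fac]; infer_instance
    haveI : IsOpenImmersion l := IsOpenImmersion.of_comp l (V i).ι
    have e : o₁ i = l ≫ inv (b₀ i ∣_ V i) ≫ (b₀ i ⁻¹ᵁ V i).ι := by
      have hl : (l ≫ inv (b₀ i ∣_ V i) ≫ (b₀ i ⁻¹ᵁ V i).ι) ≫ b₀ i = o i := by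
        rw [Category.assoc, Category.assoc, ← morphismRestrict_ι, IsIso.inv_hom_id_assoc, IsOpenImmersion.lift_fac]
      exact eq_lift_off (hb₀ i) _ _ (by rw [ho₁, hl]) (by rw [hl]; exact hd₀ i)
    rw [e]
    infer_instance
  have hd₁ : ∀ i, Dense (Set.range (o₁ i)) := fun i => by
    refine (dense_preimage_blowUp (hb₀ i) (D := Set.range (fun w => o i w)) fun x hx => ?_).mono
      (range_of_lift_blowUp (hb₀ i) (o i) (o₁ i) (ho₁ i) (hd₀ i))
    exact interior_subset (show x ∈ (V i : Set (X i)) from by_contra fun h => hx (hJ₀' i x h))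
  haveI : ∀ i, IsDominant (o₁ i) := fun i => ⟨hd₁ i⟩
  haveI : IsSeparated (o₁ i₀ ≫ b₀ i₀ ≫ p i₀) := by
    haveI : IsSeparated (o₁ i₀) := inferInstance
    infer_instance
  obtain ⟨Zc, r, hr₁, hr₂, hr₃, J₁, X₂, b₁, t, u₁, hX₂, hcov, hcompat⟩ :=
    S17387.result (o₁ i₀ ≫ b₀ i₀ ≫ p i₀) X₁ (fun i => b₀ i ≫ p i) o₁ (fun i => by
      show o₁ i ≫ b₀ i ≫ p i = o₁ i₀ ≫ b₀ i₀ ≫ p i₀
      rw [← Category.assoc, ho₁, ← Category.assoc, ho₁, hop i])
  choose K hK hKs hKb using fun i =>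
    S1694.result (X i) (J₀ i) (hJ₀ i).1 (b₀ i) (hb₀ i) (J₁ i) (hX₂ i).2.1.1 (b₁ i) (hX₂ i).1
  haveI : ∀ i, IsNoetherian (X₂ i) := fun i => isNoetherian_of_blowUp (hKb i)
  haveI : ∀ i, Flat (k i) := fun i => flat (hk i).1
  have hKW : ∀ i, Disjoint ((K i).support : Set (X i)) (Set.range (fun w => o i w)) := fun i => by
    rw [hKs i, Set.disjoint_union_left]
    refine ⟨hd₀ i, Set.disjoint_left.mpr ?_⟩
    rintro _ ⟨x, hx, rfl⟩ hw
    exact Set.disjoint_left.mp (hX₂ i).2.1.2 hx (range_of_lift_blowUp (hb₀ i) (o i) (o₁ i) (ho₁ i) (hd₀ i) hw)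
  haveI : IsNoetherian Zc := isNoetherian_of_ft r
  let g : ∀ i, pullback (k i) (b₁ i ≫ b₀ i) ⟶ Zc := fun i => pullback.snd (k i) (b₁ i ≫ b₀ i) ≫ t i
  have hu₁ : ∀ i, u₁ i ≫ b₁ i = o₁ i := fun i => (hX₂ i).2.2.2.2
  let u : ∀ i, U ⟶ pullback (k i) (b₁ i ≫ b₀ i) := fun i => pullback.lift (f i) (kW ≫ u₁ i) (by
    rw [Category.assoc, reassoc_of% (hu₁ i), ho₁, hko])
  have hug : ∀ i, u i ≫ g i = kW ≫ u₁ i ≫ t i := fun i => by
    simp only [u, g]
    rw [pullback.lift_snd_assoc, Category.assoc]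
  refine ⟨Zc, r, hr₁, hr₃, hr₂, fun i => (K i).comap (k i), _, fun i => pullback.fst (k i) (b₁ i ≫ b₀ i), u, g,
    fun i => ?_, fun i i' => by rw [hug, hug, hcompat i i']⟩
  haveI hblow := S1680.result (k i) (K i) (b₁ i ≫ b₀ i) (hKb i)
  haveI := (hX₂ i).2.2.1
  haveI := isNoetherian_of_blowUp hblow
  refine ⟨inferInstance, hblow, ?_, pullback.lift_fst _ _ _, ?_, ?_, ?_⟩
  · rw [Scheme.IdealSheafData.support_comap, Set.disjoint_left]
    rintro y hy ⟨x, rfl⟩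
    refine Set.disjoint_left.mp (hKW i) hy ⟨kW x, ?_⟩
    show o i (kW x) = k i (f i x)
    rw [← Scheme.Hom.comp_apply, hko, Scheme.Hom.comp_apply]
  · exact isLocImmersion_comp_openImmersion (t i) (S18202.result (k i) (b₁ i ≫ b₀ i) (hk i))
  · simp only [g, Category.assoc, (hX₂ i).2.2.2.1]
    rw [← hkp i, ← reassoc_of% (pullback.condition (f := k i) (g := b₁ i ≫ b₀ i))]
  · have hu₁d : ∀ i', Dense (Set.range (u₁ i')) := fun i' => by
      haveI := (hX₂ i').1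
      refine (dense_preimage_blowUp (hX₂ i').1 (D := Set.range (fun w => o₁ i' w))
        fun x _ => (hd₁ i').closure_eq.symm ▸ Set.mem_univ x).mono
        (range_of_lift_blowUp (hX₂ i').1 (o₁ i') (u₁ i') (hu₁ i') ?_)
      exact (hX₂ i').2.1.2
    have hRd : Dense (Set.range (u₁ i ≫ t i)) := by
      rw [dense_iff_closure_eq, Set.eq_univ_iff_forall]
      intro z
      obtain ⟨i', x, rfl⟩ := Set.mem_iUnion.1 (hcov.symm ▸ Set.mem_univ z)
      rw [show u₁ i ≫ t i = u₁ i' ≫ t i' from hcompat i i', Scheme.Hom.comp_base, TopCat.coe_comp, Set.range_comp]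
      exact image_closure_subset_closure_image (t i').continuous ⟨x, (hu₁d i') x, rfl⟩
    rw [hug i, Scheme.Hom.comp_base, TopCat.coe_comp]
    exact DenseRange.comp (g := ⇑(u₁ i ≫ t i)) hRd hkWd.denseRange (u₁ i ≫ t i).continuous

end Groth.Agent.LocImmBlow
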